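import Cfsg.Agent.Co3Out.Mult.Data
import Cfsg.Agent.StemCert.Flat
import Cfsg.Agent.LeechModel.Words

/-! Entries at the lower levels. -/

set_option autoImplicit false
set_option maxHeartbeats 0
set_option maxRecDepth 100000
set_option Elab.async false

namespace Cfsg.Agent.Co3Out.Mult

open Cfsg Cfsg.Agent.Compute Cfsg.Agent.StemCert Cfsg.Agent.LeechModel

theorem ent2_2_0 : allFrom 0 112 (cert.entF 19 flat bounds 2 2) = true := by decide +kernel
theorem ent2_3_0 : allFrom 0 112 (cert.entF 19 flat bounds 2 3) = true := by decide +kernel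
theorem ent2_4_0 : allFrom 0 112 (cert.entF 19 flat bounds 2 4) = true := by decide +kernel
theorem ent2_5_0 : allFrom 0 112 (cert.entF 19 flat bounds 2 5) = true := by decide +kernel
theorem ent2_6_0 : allFrom 0 112 (cert.entF 19 flat bounds 2 6) = true := by decide +kernel
theorem ent3_3_0 : allFrom 0 81 (cert.entF 19 flat bounds 3 3) = true := by decide +kernel
theorem ent3_4_0 : allFrom 0 81 (cert.entF 19 flat bounds 3 4) = true := by decide +kernel
theorem ent3_5_0 : allFrom 0 81 (cert.entF 19 flat bounds 3 5) = true := by decide +kernel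
theorem ent3_6_0 : allFrom 0 81 (cert.entF 19 flat bounds 3 6) = true := by decide +kernel
theorem ent4_4_0 : allFrom 0 45 (cert.entF 19 flat bounds 4 4) = true := by decide +kernel
theorem ent4_5_0 : allFrom 0 45 (cert.entF 19 flat bounds 4 5) = true := by decide +kernel
theorem ent4_6_0 : allFrom 0 45 (cert.entF 19 flat bounds 4 6) = true := by decide +kernel
theorem ent5_5_0 : allFrom 0 8 (cert.entF 19 flat bounds 5 5) = true := by decide +kernel
theorem ent5_6_0 : allFrom 0 8 (cert.entF 19 flat bounds 5 6) = true := by decide +kernel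
theorem ent6_6_0 : allFrom 0 2 (cert.entF 19 flat bounds 6 6) = true := by decide +kernel

end Cfsg.Agent.Co3Out.Mult
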