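import Cfsg.Agent.Co3Out.Mult.Data
import Cfsg.Agent.StemCert.Flat
import Cfsg.Agent.LeechModel.Words
import Cfsg.Agent.StemCert.RowStream

/-! The last rows. -/

set_option autoImplicit false
set_option maxHeartbeats 0
set_option maxRecDepth 100000
set_option Elab.async false

namespace Cfsg.Agent.Co3Out.Mult

open Cfsg Cfsg.Agent.Compute Cfsg.Agent.StemCert Cfsg.Agent.LeechModel

theorem rowsC : cert.rowsS 19 flat ((cert.rows.drop 20).drop 110) ((rowPacks.drop 20).drop 110) = true := by decide +kernel
theorem rows_len : Nat.beq cert.rows.length rowPacks.length = true := by decide +kernel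

end Cfsg.Agent.Co3Out.Mult
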