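import Cfsg.Agent.Co3Out.Mult.Data
import Cfsg.Agent.StemCert.Flat
import Cfsg.Agent.LeechModel.Words
import Cfsg.Agent.StemCert.Count

/-! Permutation checks of the tables. -/

set_option autoImplicit false
set_option maxHeartbeats 0
set_option maxRecDepth 100000
set_option Elab.async false

namespace Cfsg.Agent.Co3Out.Mult

open Cfsg Cfsg.Agent.Compute Cfsg.Agent.StemCert Cfsg.Agent.LeechModel

theorem table0 : cert.tableAt 9 codes base 0 = true := by decide +kernel
theorem table1 : cert.tableAt 9 codes base 1 = true := by decide +kernel
theorem table2 : cert.tableAt 9 codes base 2 = true := by decide +kernel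
theorem table3 : cert.tableAt 9 codes base 3 = true := by decide +kernel
theorem table4 : cert.tableAt 9 codes base 4 = true := by decide +kernel
theorem table5 : cert.tableAt 9 codes base 5 = true := by decide +kernel
theorem table6 : cert.tableAt 9 codes base 6 = true := by decide +kernel
theorem comm_ok : allBelow 7 (cert.commAt 9 codes base) = true := by decide +kernel

end Cfsg.Agent.Co3Out.Mult
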